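import Cfsg.Agent.Frob.Structure
import Cfsg.Agent.ZJ.Fpf
import Cfsg.Agent.Hall.System
import Cfsg.Agent.Subnormal.BaerSuzuki

/-!
Frobenius groups and order type: counting elements of given order, orders of elements, and a group
with the same order type as a Frobenius group is a Frobenius group.
-/

set_option autoImplicit false
set_option linter.style.haveILetI false

namespace CfsgLib.FrobOrder

open CfsgLib.Frob

variable {F : Type*} [Group F] [Finite F] {H : Subgroup F}

theorem kernel_isNilpotent (hH : Cfsg.IsFrobeniusComplement H) : Group.IsNilpotent (kernel hH) := by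
  haveI := kernel_normal hH
  obtain ⟨a, ha, ha1⟩ := exists_ne_one hH
  haveI : Nontrivial H := ⟨⟨⟨a, ha⟩, 1, fun e => ha1 (congrArg Subtype.val e)⟩⟩
  obtain ⟨p, hp, hpd⟩ := Nat.exists_prime_and_dvd (n := Nat.card H) Finite.one_lt_card.ne'
  haveI : Fact p.Prime := ⟨hp⟩
  obtain ⟨h, hh⟩ := exists_prime_orderOf_dvd_card' p hpd
  have hh1 : (h : F) ≠ 1 := fun e => hp.one_lt.ne' (by
    rw [← hh, show h = 1 from Subtype.ext e, orderOf_one])
  refine CfsgLib.ZJ.isNilpotent_of_fixedPointFree (α := MulAut.conjNormal (h : F)) hp ?_ ?_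
  · intro v hv
    have h1 : (h : F) * v * (h : F)⁻¹ = v := by
      have h0 := congrArg Subtype.val hv
      rwa [MulAut.conjNormal_apply] at h0
    have h2 : (v : F) ∈ kernel hH ⊓ Subgroup.centralizer ({(h : F)} : Set F) :=
      ⟨v.2, Subgroup.mem_centralizer_singleton_iff.mpr (mul_inv_eq_iff_eq_mul.mp h1).symm⟩
    rw [kernel_inf_centralizer hH h.2 hh1] at h2
    exact Subtype.ext (Subgroup.mem_bot.mp h2)
  · rw [← map_pow, ← Subgroup.coe_pow, ← hh, pow_orderOf_eq_one]
    exact map_one _

/-- A Frobenius group is solvable iff its complement is. -/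
theorem isSolvable_iff (hH : Cfsg.IsFrobeniusComplement H) :
    Group.IsSolvable F ↔ Group.IsSolvable H := by
  haveI := kernel_normal hH
  haveI := kernel_isNilpotent hH
  constructor
  · intro h
    infer_instance
  · intro h
    refine CfsgLib.Hall.isSolvable_of_normal (kernel hH) inferInstance ?_
    exact Group.isSolvable_of_surjective
      (f := (Subgroup.IsComplement'.QuotientMulEquiv (isComplement'_kernel hH).symm).symm.toMonoidHom)
      (MulEquiv.surjective _)

/-- In a Frobenius group every element order divides the order of the kernel or of the complement. -/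
theorem orderOf_dvd_or (hH : Cfsg.IsFrobeniusComplement H) (x : F) :
    orderOf x ∣ H.index ∨ orderOf x ∣ Nat.card H := by
  by_cases hx : x ∈ kernel hH
  · exact Or.inl (orderOf_dvd_of_pow_eq_one ((mem_kernel_iff_pow hH).mp hx))
  · obtain ⟨-, g, hg⟩ := not_mem_kernel_iff.mp (fun h => hx ((mem_kernel hH).mpr h))
    refine Or.inr ?_
    have h1 : orderOf (g⁻¹ * x * g) = orderOf x := by
      rw [← MulEquiv.orderOf_eq (MulAut.conj g) (g⁻¹ * x * g), MulAut.conj_apply]
      congr 1
      group
    rw [← h1, ← Subgroup.orderOf_mk _ hg]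
    exact orderOf_dvd_natCard _

/-- The elements of a given order `m > 1` dividing `|H|` lie in the conjugates of `H`. -/
theorem card_orderOf_eq (hH : Cfsg.IsFrobeniusComplement H) {m : ℕ} (hm : m ∣ Nat.card H)
    (hm1 : m ≠ 1) :
    Nat.card {g : F // orderOf g = m} = H.index * Nat.card {h : H // orderOf h = m} := by
  classical
  have hord : ∀ (q : F ⧸ H) (h : H), orderOf (q.out * (h : F) * q.out⁻¹) = orderOf h := fun q h =>
    ((MulAut.conj q.out).orderOf_eq (h : F)).trans (Subgroup.orderOf_coe h)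
  let e : (F ⧸ H) × {h : H // orderOf h = m} → {g : F // orderOf g = m} := fun p =>
    ⟨p.1.out * (p.2.1 : F) * p.1.out⁻¹, (hord p.1 p.2.1).trans p.2.2⟩
  have he : Function.Bijective e := by
    constructor
    · rintro ⟨q, h⟩ ⟨q', h'⟩ hqq
      have h0 : q.out * (h.1 : F) * q.out⁻¹ = q'.out * (h'.1 : F) * q'.out⁻¹ :=
        congrArg Subtype.val hqq
      have hne : (h.1 : F) ≠ 1 := fun he => hm1 (by
        rw [← h.2, orderOf_eq_one_iff]; exact Subtype.ext he)
      have hq : q = q' := by
        rw [← q.out_eq', ← q'.out_eq', QuotientGroup.eq]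
        refine mem_of_conj_mem' hH h.1.2 hne ?_
        have : (q.out⁻¹ * q'.out)⁻¹ * (h.1 : F) * (q.out⁻¹ * q'.out) = h'.1 := by
          calc (q.out⁻¹ * q'.out)⁻¹ * (h.1 : F) * (q.out⁻¹ * q'.out)
              = q'.out⁻¹ * (q.out * (h.1 : F) * q.out⁻¹) * q'.out := by group
            _ = q'.out⁻¹ * (q'.out * (h'.1 : F) * q'.out⁻¹) * q'.out := by rw [h0]
            _ = h'.1 := by group
        rw [this]; exact h'.1.2
      subst hq
      refine Prod.ext rfl (Subtype.ext (Subtype.ext ?_))
      simpa using h0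
    · rintro ⟨x, hx⟩
      have hxK : x ∉ kernel hH := fun hc => hm1 (Nat.eq_one_of_dvd_coprimes (coprime_card_index hH)
        hm (hx ▸ orderOf_dvd_of_pow_eq_one ((mem_kernel_iff_pow hH).mp hc)))
      obtain ⟨h1, g, hg⟩ := not_mem_kernel_iff.mp (fun h => hxK ((mem_kernel hH).mpr h))
      set q : F ⧸ H := QuotientGroup.mk g with hq
      have hgo : g⁻¹ * q.out ∈ H := QuotientGroup.eq.mp (by rw [hq, QuotientGroup.out_eq'])
      have hmem : q.out⁻¹ * x * q.out ∈ H := by
        have : q.out⁻¹ * x * q.out = (g⁻¹ * q.out)⁻¹ * (g⁻¹ * x * g) * (g⁻¹ * q.out) := by group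
        rw [this]
        exact H.mul_mem (H.mul_mem (H.inv_mem hgo) hg) hgo
      have hback : q.out * (q.out⁻¹ * x * q.out) * q.out⁻¹ = x := by group
      refine ⟨⟨q, ⟨⟨q.out⁻¹ * x * q.out, hmem⟩, ?_⟩⟩, Subtype.ext hback⟩
      have h2 := hord q ⟨_, hmem⟩
      have h3 : orderOf (q.out * (q.out⁻¹ * x * q.out) * q.out⁻¹) = m := by rw [hback, hx]
      exact h2.symm.trans h3
  rw [← Nat.card_congr (Equiv.ofBijective e he), Nat.card_prod]
  rfl

/-- The number of solutions of `x ^ r ^ a = 1`, for `r ^ a` the `r`-part of the order of the kernel. -/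
theorem card_sol_primePow (hH : Cfsg.IsFrobeniusComplement H) {r : ℕ} (hr : r.Prime)
    (hrk : r ∣ H.index) :
    Nat.card {x : F // x ^ r ^ (Nat.card F).factorization r = 1} = r ^ (Nat.card F).factorization r := by
  haveI := Fact.mk hr
  haveI := kernel_normal hH
  haveI := kernel_isNilpotent hH
  have hrc : ¬ r ∣ Nat.card H := fun h =>
    hr.ne_one (Nat.eq_one_of_dvd_coprimes (coprime_card_index hH) h hrk)
  set a := (Nat.card F).factorization r with ha
  have hak : (Nat.card (kernel hH)).factorization r = a := by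
    rw [ha, ← H.index_mul_card, card_kernel_subgroup,
      Nat.factorization_mul Subgroup.index_ne_zero_of_finite Nat.card_pos.ne', Finsupp.add_apply,
      Nat.factorization_eq_zero_of_not_dvd hrc, add_zero]
  obtain ⟨S⟩ : Nonempty (Sylow r (kernel hH)) := inferInstance
  have hSn : (S : Subgroup (kernel hH)).Normal := inferInstance
  haveI := Sylow.unique_of_normal S hSn
  have hcardS : Nat.card S = r ^ a := by rw [← hak]; exact S.card_eq_multiplicity
  refine Eq.trans ?_ hcardS
  refine Nat.card_congr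
    { toFun := fun x => ⟨⟨x.1, (mem_kernel_iff_pow hH).mpr ?_⟩, ?_⟩
      invFun := fun x => ⟨((x.1 : kernel hH) : F), ?_⟩
      left_inv := fun x => rfl
      right_inv := fun x => rfl }
  · obtain ⟨t, ht⟩ : r ^ a ∣ H.index := by
      rw [← card_kernel_subgroup hH, ← hak]; exact Nat.ordProj_dvd _ _
    rw [ht, pow_mul, x.2, one_pow]
  · set y : kernel hH := ⟨x.1, _⟩ with hy
    have hy1 : y ^ r ^ a = 1 := Subtype.ext x.2
    obtain ⟨j, -, hj⟩ := (Nat.dvd_prime_pow hr).mp (orderOf_dvd_of_pow_eq_one hy1)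
    have hP : IsPGroup r (Subgroup.zpowers y) := IsPGroup.of_card (n := j) (by
      rw [Nat.card_zpowers, hj])
    obtain ⟨T, hT⟩ := hP.exists_le_sylow
    show y ∈ (S : Subgroup (kernel hH))
    rw [Subsingleton.elim S T]
    exact hT (Subgroup.mem_zpowers y)
  · have h1 : (x.1 : kernel hH) ^ r ^ a = 1 := by
      rw [← hcardS]
      have h2 : (⟨x.1, x.2⟩ : (S : Subgroup (kernel hH))) ^ Nat.card S = 1 := pow_card_eq_one'
      exact congrArg Subtype.val h2
    exact congrArg Subtype.val h1

/-- A group with the same element orders and their multiplicities as a Frobenius group is a Frobenius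
group with a complement of the same order. -/
theorem exists_complement_of_equiv {G : Type*} [Group G] [Finite G]
    (hH : Cfsg.IsFrobeniusComplement H) (e : F ≃ G) (he : ∀ x, orderOf (e x) = orderOf x) :
    ∃ C : Subgroup G, Cfsg.IsFrobeniusComplement C ∧ Nat.card C = Nat.card H := by
  classical
  have hcardG : Nat.card G = H.index * Nat.card H := by rw [← Nat.card_congr e, H.index_mul_card]
  have hk0 : H.index ≠ 0 := Subgroup.index_ne_zero_of_finite
  have hc0 : Nat.card H ≠ 0 := Nat.card_pos.ne'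
  have hcop := (coprime_card_index hH).symm
  set π : Set ℕ := {r | r ∣ H.index} with hπ
  set 𝒮 : Set (Subgroup G) := {N | ∃ r : ℕ, r.Prime ∧ r ∣ H.index ∧ ∃ S : Sylow r G, N = ↑S} with h𝒮
  have h𝒮n : ∀ N ∈ 𝒮, N.Normal ∧ CfsgLib.Subnormal.IsPi π N := by
    rintro _ ⟨r, hr, hrk, S, rfl⟩
    haveI := Fact.mk hr
    have hcS : Nat.card S = r ^ (Nat.card G).factorization r := S.card_eq_multiplicity
    have hsol : {x : G | x ^ r ^ (Nat.card G).factorization r = 1}.ncard =
        r ^ (Nat.card G).factorization r := by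
      rw [← Nat.card_coe_set_eq]
      have h1 := card_sol_primePow hH hr hrk
      rw [Nat.card_congr e] at h1
      refine Eq.trans (Nat.card_congr ?_).symm h1
      refine e.subtypeEquiv fun x => ?_
      show _ ↔ (e x) ^ _ = 1
      rw [← orderOf_dvd_iff_pow_eq_one, ← orderOf_dvd_iff_pow_eq_one, he]
    have hset : ((S : Subgroup G) : Set G) = {x : G | x ^ r ^ (Nat.card G).factorization r = 1} := by
      refine Set.eq_of_subset_of_ncard_le (fun x hx => ?_) ?_
      · have h2 : (⟨x, hx⟩ : (S : Subgroup G)) ^ Nat.card S = 1 := pow_card_eq_one'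
        rw [hcS] at h2
        exact congrArg Subtype.val h2
      · rw [hsol, ← hcS, ← Nat.card_coe_set_eq]
        exact le_refl _
    refine ⟨⟨fun x hx g => ?_⟩, ?_⟩
    · rw [← SetLike.mem_coe, hset, Set.mem_ofPred_eq] at hx ⊢
      rw [conj_pow, hx, mul_one, mul_inv_cancel]
    · intro q hq hd
      rw [hcS] at hd
      rw [(Nat.prime_dvd_prime_iff_eq hq hr).mp (hq.dvd_of_dvd_pow hd)]
      exact hrk
  set K : Subgroup G := sSup 𝒮 with hK
  have hKπ : CfsgLib.Subnormal.IsPi π K := CfsgLib.Subnormal.isPi_sSup 𝒮 h𝒮n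
  haveI hKn : K.Normal := Subgroup.sSup_normal _ fun N hN => (h𝒮n N hN).1
  have hKcard : Nat.card K = H.index := by
    refine Nat.dvd_antisymm ?_ ?_
    · refine Nat.Coprime.dvd_of_dvd_mul_right ?_ (hcardG ▸ K.card_subgroup_dvd_card)
      exact Nat.coprime_of_dvd fun q hq h1 h2 => hq.ne_one
        (Nat.eq_one_of_dvd_coprimes hcop (hKπ q hq h1) h2)
    · rw [← Nat.factorization_le_iff_dvd hk0 Nat.card_pos.ne', Finsupp.le_def]
      intro r
      by_cases hr : r.Prime ∧ r ∣ H.index
      · haveI := Fact.mk hr.1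
        obtain ⟨S⟩ : Nonempty (Sylow r G) := inferInstance
        have h1 : (S : Subgroup G) ≤ K := le_sSup ⟨r, hr.1, hr.2, S, rfl⟩
        have h2 := Subgroup.card_dvd_of_le h1
        rw [S.card_eq_multiplicity, hcardG, Nat.factorization_mul hk0 hc0, Finsupp.add_apply] at h2
        exact (Nat.le_add_right _ _).trans ((hr.1.pow_dvd_iff_le_factorization Nat.card_pos.ne').mp h2)
      · rcases not_and_or.mp hr with h | h
        · rw [Nat.factorization_eq_zero_of_not_prime _ h]; exact Nat.zero_le _
        · rw [Nat.factorization_eq_zero_of_not_dvd h]; exact Nat.zero_le _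
  have hKidx : K.index = Nat.card H := by
    have := K.card_mul_index
    rw [hKcard, hcardG] at this
    exact Nat.eq_of_mul_eq_mul_left (Nat.pos_of_ne_zero hk0) this
  obtain ⟨C, hC⟩ := Subgroup.exists_right_complement'_of_coprime (N := K)
    (by rw [hKcard, hKidx]; exact hcop)
  have hCcard : Nat.card C = Nat.card H := by rw [← hC.symm.index_eq_card, hKidx]
  refine ⟨C, isFrobeniusComplement_of_fpf K C (disjoint_iff.mp hC.disjoint) hC.sup_eq_top ?_ ?_ ?_,
    hCcard⟩
  · intro h
    exact index_ne_one hH (by rw [← hKcard, h, Subgroup.card_bot])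
  · intro h
    obtain ⟨a, ha, ha1⟩ := exists_ne_one hH
    rw [h, Subgroup.card_bot] at hCcard
    exact ha1 (congrArg Subtype.val ((Nat.card_eq_one_iff_unique.mp hCcard.symm).1.elim ⟨a, ha⟩ (1 : H)))
  intro x hx y hy hxy
  have h1 : orderOf x ∣ Nat.card H := hCcard ▸ C.orderOf_dvd_natCard hx
  have h2 : orderOf y ∣ H.index := hKcard ▸ K.orderOf_dvd_natCard hy
  have h3 : orderOf (x * y) = orderOf x * orderOf y :=
    Commute.orderOf_mul_eq_mul_orderOf_of_coprime hxy
      ((hcop.symm.coprime_dvd_left h1).coprime_dvd_right h2)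
  have h4 := orderOf_dvd_or hH (e.symm (x * y))
  rw [← he, Equiv.apply_symm_apply, h3] at h4
  rcases h4 with h4 | h4
  · exact Or.inl (orderOf_eq_one_iff.mp
      (Nat.eq_one_of_dvd_coprimes hcop.symm h1 ((dvd_mul_right _ _).trans h4)))
  · exact Or.inr (orderOf_eq_one_iff.mp
      (Nat.eq_one_of_dvd_coprimes hcop h2 ((dvd_mul_left _ _).trans h4)))

end CfsgLib.FrobOrder
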