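import Cfsg.Agent.Frob.Structure
import Cfsg.Agent.Hall.Fitting
import Cfsg.Agent.Hall.System
import Cfsg.Agent.CharBasics.Burnside
import Cfsg.Agent.Transfer.Frobenius
import Cfsg.Agent.CoprimeAction.Basic
import Cfsg.Agent.CoprimeAction.Frattini
import Cfsg.Agent.Components.Cores

/-!
Solvability of groups with a fixed-point-free integral representation (Frobenius complements) in
terms of the number of subgroups of prime order: such a group is solvable iff it has at most one
subgroup of each prime order `≥ 5`.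

* `commute_of_fix_omega`, `le_centralizer_of_cyclic_index_two`
* `AtMostOne`, `atMostOne_of_isSolvable`, `isSolvable_of_atMostOne`
-/

set_option autoImplicit false
set_option linter.style.haveILetI false

namespace CfsgLib.FrobOrder

open CfsgLib.Frob

/-- An element of order prime to `r` fixing the subgroup of order `r` of a normalised cyclic `r`-group
centralises it. -/
theorem commute_of_fix_omega {G : Type*} [Group G] {g a : G} {r m : ℕ} (hr : r.Prime)
    (ha : orderOf a = r ^ (m + 1)) {k : ℤ} (hk : g * a * g⁻¹ = a ^ k)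
    (hfix : Commute g (a ^ r ^ m)) (hg : (orderOf g).Coprime r) : Commute g a := by
  have h1 : a ^ (((r : ℤ) ^ m) * (k - 1)) = 1 := by
    have e : g * a ^ ((r : ℤ) ^ m) * g⁻¹ = a ^ (k * (r : ℤ) ^ m) := by
      rw [← conj_zpow, zpow_mul, hk]
    have e2 : g * a ^ ((r : ℤ) ^ m) * g⁻¹ = a ^ ((r : ℤ) ^ m) := by
      rw [← Nat.cast_pow, zpow_natCast]
      exact mul_inv_eq_iff_eq_mul.mpr hfix
    rw [mul_sub, mul_one, zpow_sub, mul_comm ((r : ℤ) ^ m) k, ← e, e2, mul_inv_cancel]
  have h2 : (r : ℤ) ∣ k - 1 := by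
    have h3 := orderOf_dvd_iff_zpow_eq_one.mpr h1
    rw [ha, Nat.cast_pow, pow_succ] at h3
    exact (mul_dvd_mul_iff_left (pow_ne_zero _ (Int.natCast_ne_zero.mpr hr.ne_zero))).mp h3
  have h3 : (orderOf a : ℤ) ∣ k ^ r ^ m - 1 := by
    have := dvd_sub_pow_of_dvd_sub h2 m
    rw [one_pow] at this
    rw [ha, Nat.cast_pow]
    exact this
  have h4 : g ^ r ^ m * a * (g ^ r ^ m)⁻¹ = a := by
    have := CfsgLib.RankOneP.conj_zpow_pow hk (r ^ m) 1
    rw [zpow_one, mul_one] at this
    rw [this]
    have h5 := orderOf_dvd_iff_zpow_eq_one.mp h3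
    rw [zpow_sub, zpow_one, mul_inv_eq_one] at h5
    exact h5
  have h5 : Commute (g ^ r ^ m) a := mul_inv_eq_iff_eq_mul.mp h4
  obtain ⟨j, hj⟩ := exists_pow_eq_self_of_coprime
    ((Nat.Coprime.pow_left m hg.symm) : (r ^ m).Coprime (orderOf g))
  rw [← hj]
  exact h5.pow_left j

/-- A `2`-group with a cyclic subgroup of index at most `2` is centralised by every normalising
element of order prime to `6`. -/
theorem le_centralizer_of_cyclic_index_two {G : Type*} [Group G] [Finite G] {Q : Subgroup G}
    (hQ : IsPGroup 2 Q) (c : Q) (hCi : (Subgroup.zpowers c).index ≤ 2) {g : G}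
    (hg : g ∈ Subgroup.normalizer (Q : Set G)) (hgo : (orderOf g).Coprime 6) :
    g ∈ Subgroup.centralizer (Q : Set G) := by
  have : Fact (Nat.Prime 2) := ⟨Nat.prime_two⟩
  suffices h : Subgroup.zpowers g ≤ Subgroup.centralizer (Q : Set G) from h (Subgroup.mem_zpowers g)
  have hgz : Subgroup.zpowers g ≤ Subgroup.normalizer (Q : Set G) := Subgroup.zpowers_le.2 hg
  have hΦ : (frattini Q).index ≤ 4 := by
    have hle : Subgroup.zpowers (c ^ 2) ≤ frattini Q :=
      Subgroup.zpowers_le.2 (CfsgLib.CoprimeAction.pow_mem_frattini hQ _)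
    refine (Nat.le_of_dvd (Nat.pos_of_ne_zero Subgroup.index_ne_zero_of_finite)
      (Subgroup.index_dvd_of_le hle)).trans ?_
    have h2 : Subgroup.zpowers (c ^ 2) ≤ Subgroup.zpowers c :=
      Subgroup.zpowers_le.2 (pow_mem (Subgroup.mem_zpowers _) _)
    rw [← Subgroup.relIndex_mul_index h2]
    refine le_trans (Nat.mul_le_mul ?_ hCi) (le_refl (2 * 2))
    have h4 := Subgroup.relIndex_mul_relIndex ⊥ _ _ bot_le h2
    rw [Subgroup.relIndex_bot_left, Subgroup.relIndex_bot_left, Nat.card_zpowers, Nat.card_zpowers,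
      orderOf_pow' _ (two_ne_zero)] at h4
    have hg2 : (orderOf c).gcd 2 ≤ 2 := Nat.le_of_dvd two_pos (Nat.gcd_dvd_right _ _)
    have hpos : 0 < orderOf c / (orderOf c).gcd 2 :=
      Nat.div_pos (Nat.le_of_dvd (orderOf_pos _) (Nat.gcd_dvd_left _ _)) (Nat.gcd_pos_of_pos_right _ two_pos)
    refine le_trans (le_of_eq ?_) hg2
    exact mul_left_cancel₀ hpos.ne' (h4.trans (Nat.div_mul_cancel (Nat.gcd_dvd_left _ _)).symm)
  have hg2 : (orderOf g).Coprime 2 := Nat.Coprime.coprime_dvd_right (by norm_num) hgo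
  have hg3 : (orderOf g).Coprime 3 := Nat.Coprime.coprime_dvd_right (by norm_num) hgo
  have hcop : ∀ z : G, z ∈ Subgroup.zpowers g → Nat.Coprime (orderOf z) 24 := fun z hz => by
    have hd := orderOf_dvd_of_mem_zpowers hz
    exact ((hg2.coprime_dvd_left hd).pow_right 3).mul_right (hg3.coprime_dvd_left hd)
  refine CfsgLib.CoprimeAction.le_centralizer_of_frattini ?_ ?_
  · refine Nat.Coprime.coprime_dvd_right (Subgroup.card_subgroup_dvd_card (frattini Q)) ?_
    obtain ⟨k, hk⟩ := IsPGroup.iff_card.1 hQ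
    rw [hk, Nat.card_zpowers]
    exact hg2.pow_right k
  intro z hz k hk
  let θ : Subgroup.normalizer (Q : Set G) →* MulAut Q := Q.normalizerMonoidHom
  let π : MulAut Q →* MulAut (Q ⧸ frattini Q) :=
    { toFun := fun e => QuotientGroup.congr (frattini Q) (frattini Q) e
        (Subgroup.characteristic_iff_map_eq.1 inferInstance e)
      map_one' := MulEquiv.ext fun q => by
        obtain ⟨q, rfl⟩ := QuotientGroup.mk_surjective q
        rfl
      map_mul' := fun e f => MulEquiv.ext fun q => by
        obtain ⟨q, rfl⟩ := QuotientGroup.mk_surjective q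
        rfl }
  let π' : MulAut (Q ⧸ frattini Q) →* Equiv.Perm (Q ⧸ frattini Q) :=
    { toFun := fun e => e.toEquiv, map_one' := rfl, map_mul' := fun _ _ => rfl }
  have hdiv : Nat.card (Equiv.Perm (Q ⧸ frattini Q)) ∣ 24 := by
    rw [Nat.card_perm, ← Subgroup.index_eq_card, show (24 : ℕ) = Nat.factorial 4 from rfl]
    exact Nat.factorial_dvd_factorial hΦ
  have h1 : π' (π (θ ⟨z, hgz hz⟩)) = 1 := by
    rw [← orderOf_eq_one_iff]
    refine Nat.eq_one_of_dvd_coprimes (hcop z hz) ?_ ((orderOf_dvd_natCard _).trans hdiv)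
    refine (orderOf_map_dvd (π'.comp (π.comp θ)) ⟨z, hgz hz⟩).trans ?_
    rw [← Subgroup.orderOf_coe]
  have h2 : (QuotientGroup.mk ((θ ⟨z, hgz hz⟩) ⟨k, hk⟩) : Q ⧸ frattini Q) = QuotientGroup.mk (⟨k, hk⟩ : Q) :=
    Equiv.congr_fun h1 (QuotientGroup.mk (⟨k, hk⟩ : Q))
  rw [QuotientGroup.eq_iff_div_mem, div_eq_mul_inv] at h2
  exact ⟨_, h2, rfl⟩

/-- At most one subgroup of order `p`, for every prime `p ≥ 5`. -/
def AtMostOne (X : Type*) [Group X] : Prop :=
  ∀ p : ℕ, p.Prime → 5 ≤ p → ∀ x y : X, orderOf x = p → orderOf y = p → y ∈ Subgroup.zpowers x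

theorem atMostOne_congr {X : Type*} {Y : Type*} [Group X] [Group Y] [Finite X] [Finite Y]
    (h : ∀ p : ℕ, p.Prime → Nat.card {x : X // orderOf x = p} = Nat.card {y : Y // orderOf y = p})
    (hX : AtMostOne X) : AtMostOne Y := by
  intro p hp hp5 y y' hy hy'
  -- the count of elements of order `p` is at most `p - 1`
  have hle : Nat.card {z : X // orderOf z = p} ≤ p - 1 := by
    rcases isEmpty_or_nonempty {z : X // orderOf z = p} with he | ⟨⟨x, hx⟩⟩
    · rw [Nat.card_of_isEmpty]; exact Nat.zero_le _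
    let f : {z : X // orderOf z = p} → {z : Subgroup.zpowers x // z ≠ 1} := fun z =>
      ⟨⟨z.1, hX p hp hp5 x z.1 hx z.2⟩, fun e => hp.ne_one (by
        rw [← z.2, orderOf_eq_one_iff]
        exact congrArg Subtype.val e)⟩
    have hf : Function.Injective f := fun a b hab =>
      Subtype.ext (congrArg (fun t : {z : Subgroup.zpowers x // z ≠ 1} => (t.1 : X)) hab)
    refine (Nat.card_le_card_of_injective f hf).trans (le_of_eq ?_)
    classical
    haveI := Fintype.ofFinite (Subgroup.zpowers x)
    rw [Nat.card_eq_fintype_card, Fintype.card_subtype_compl, Fintype.card_subtype_eq,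
      ← Nat.card_eq_fintype_card, Nat.card_zpowers, hx]
  rw [h p hp] at hle
  by_contra hn
  classical
  haveI := Fintype.ofFinite (Subgroup.zpowers y)
  let g : Option {z : Subgroup.zpowers y // z ≠ 1} → {z : Y // orderOf z = p} := fun o =>
    match o with
    | none => ⟨y', hy'⟩
    | some z => ⟨z.1.1, by
        rcases hp.eq_one_or_self_of_dvd _ (hy ▸ orderOf_dvd_of_mem_zpowers z.1.2) with e | e
        · exact absurd (Subtype.ext (orderOf_eq_one_iff.mp e)) z.2
        · exact e⟩
  have hg : Function.Injective g := by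
    rintro (_ | a) (_ | b) hab
    · rfl
    · have h' : y' = (b.1 : Y) := congrArg Subtype.val hab
      exact absurd (by rw [h']; exact b.1.2) hn
    · have h' : (a.1 : Y) = y' := congrArg Subtype.val hab
      exact absurd (by rw [← h']; exact a.1.2) hn
    · have h' : (a.1 : Y) = (b.1 : Y) := congrArg (fun t : {z : Y // orderOf z = p} => (t : Y)) hab
      have h'' : a = b := Subtype.ext (Subtype.ext h')
      rw [h'']
  have h2 := Nat.card_le_card_of_injective g hg
  rw [Finite.card_option, Nat.card_eq_fintype_card (α := {z : Subgroup.zpowers y // z ≠ 1}),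
    Fintype.card_subtype_compl, Fintype.card_subtype_eq,
    ← Nat.card_eq_fintype_card, Nat.card_zpowers, hy] at h2
  have := hp.two_le
  omega

/-- A Frobenius complement: an element of prime order `≥ 5` of a solvable one centralises every
normal subgroup of prime power order. -/
theorem commute_normal_pgroup {X : Type*} [Group X] [Finite X] (hX : LatFpf X) {p r : ℕ}
    (hp : p.Prime) (hp5 : 5 ≤ p) (hr : r.Prime) {x : X} (hx : orderOf x = p) (R : Subgroup X)
    [R.Normal] (hR : IsPGroup r R) : x ∈ Subgroup.centralizer (R : Set X) := by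
  haveI := Fact.mk hp
  haveI := Fact.mk hr
  rw [Subgroup.mem_centralizer_iff]
  intro a ha
  by_cases hrp : r = p
  · subst hrp
    have hxP : IsPGroup r (Subgroup.zpowers x) := IsPGroup.of_card (n := 1) (by
      rw [Nat.card_zpowers, hx, pow_one])
    have hPR : IsPGroup r (Subgroup.zpowers x ⊔ R : Subgroup X) := hxP.to_sup_of_normal_right hR
    have hodd : r ≠ 2 := by omega
    haveI : IsCyclic (Subgroup.zpowers x ⊔ R : Subgroup X) :=
      CfsgLib.RankOneP.isCyclic_of_odd hodd hPR (hX.uniqueOrderP hPR)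
    let _ : CommGroup (Subgroup.zpowers x ⊔ R : Subgroup X) := IsCyclic.commGroup
    exact congrArg Subtype.val (mul_comm
      (⟨a, Subgroup.mem_sup_right ha⟩ : (Subgroup.zpowers x ⊔ R : Subgroup X))
      ⟨x, Subgroup.mem_sup_left (Subgroup.mem_zpowers x)⟩)
  have hgo : (orderOf x).Coprime r := by
    rw [hx]; exact (Nat.coprime_primes hp hr).mpr (fun e => hrp e.symm)
  rcases hX.sylow_cyclic_or_quaternion hR with hcyc | ⟨h2, k, -, ⟨e⟩⟩
  · obtain ⟨c, hc⟩ := hcyc.exists_generator
    suffices hcom : Commute x (c : X) by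
      obtain ⟨i, hi⟩ := Subgroup.mem_zpowers_iff.1 (hc ⟨a, ha⟩)
      have hi' : (c : X) ^ i = a := congrArg Subtype.val hi
      rw [← hi']
      exact (hcom.zpow_right i).symm
    have hmem : ∀ z : X, z ∈ R → z ∈ Subgroup.zpowers (c : X) := fun z hz => by
      obtain ⟨i, hi⟩ := Subgroup.mem_zpowers_iff.1 (hc ⟨z, hz⟩)
      exact Subgroup.mem_zpowers_iff.2 ⟨i, congrArg Subtype.val hi⟩
    obtain ⟨n, hn⟩ := (IsPGroup.iff_orderOf.mp hR) c
    rw [← Subgroup.orderOf_coe] at hn
    rcases n with _ | n
    · rw [pow_zero, orderOf_eq_one_iff] at hn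
      rw [hn]; exact Commute.one_right _
    obtain ⟨k, hk⟩ := Subgroup.mem_zpowers_iff.1
      (hmem _ ((inferInstance : R.Normal).conj_mem (c : X) c.2 x))
    refine commute_of_fix_omega hr hn hk.symm ?_ hgo
    -- the subgroup of order `r` is centralised, as `X` is no Frobenius group
    set b : X := (c : X) ^ r ^ n with hb
    have hbo : orderOf b = r := by
      rw [hb, orderOf_pow_of_dvd (pow_ne_zero _ hr.ne_zero) (hn ▸ pow_dvd_pow r (Nat.le_succ n)), hn,
        pow_succ, Nat.mul_div_cancel_left _ (pow_pos hr.pos n)]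
    by_contra hnc
    have hbconj : x * b * x⁻¹ ∈ Subgroup.zpowers b := by
      have e : x * b * x⁻¹ = (x * (c : X) * x⁻¹) ^ r ^ n := (conj_pow).symm
      rw [e, ← hk, ← zpow_natCast, ← zpow_mul, mul_comm, zpow_mul, zpow_natCast]
      exact Subgroup.zpow_mem_zpowers _ _
    let L : Subgroup X := Subgroup.zpowers b ⊔ Subgroup.zpowers x
    have hbN : L ≤ Subgroup.normalizer (Subgroup.zpowers b : Set X) := by
      refine sup_le Subgroup.le_normalizer (Subgroup.zpowers_le.mpr ?_)
      have hle : (Subgroup.zpowers b).map (MulAut.conj x).toMonoidHom ≤ Subgroup.zpowers b := by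
        rw [MonoidHom.map_zpowers, Subgroup.zpowers_le]
        exact hbconj
      have heq := Subgroup.eq_of_le_of_card_ge hle
        (Subgroup.card_map_of_injective (MulAut.conj x).injective).ge
      rw [Subgroup.mem_normalizer_iff]
      intro z
      conv_rhs => rw [← heq]
      exact (Subgroup.mem_map_iff_mem (f := (MulAut.conj x).toMonoidHom)
        (MulAut.conj x).injective).symm
    haveI : ((Subgroup.zpowers b).subgroupOf L).Normal := Subgroup.normal_subgroupOf_of_le_normalizer hbN
    have hdis : Subgroup.zpowers b ⊓ Subgroup.zpowers x = ⊥ :=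
      Subgroup.inf_eq_bot_of_coprime (by
        rw [Nat.card_zpowers, Nat.card_zpowers, hbo, hx]
        exact (Nat.coprime_primes hr hp).mpr hrp)
    refine (hX.comp L.subtype L.subtype_injective).no_frobenius
      (D := (Subgroup.zpowers x).subgroupOf L)
      (isFrobeniusComplement_of_fpf ((Subgroup.zpowers b).subgroupOf L) _ ?_ ?_ ?_ ?_ ?_)
    · rw [Subgroup.subgroupOf, Subgroup.subgroupOf, ← Subgroup.comap_inf, hdis,
        MonoidHom.comap_bot, Subgroup.ker_subtype]
    · rw [← Subgroup.subgroupOf_sup le_sup_left le_sup_right, Subgroup.subgroupOf_self]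
    · rw [Ne, Subgroup.subgroupOf_eq_bot, disjoint_iff, inf_eq_left.mpr le_sup_left,
        Subgroup.zpowers_eq_bot]
      exact fun e => hr.ne_one (by rw [← hbo, e, orderOf_one])
    · rw [Ne, Subgroup.subgroupOf_eq_bot, disjoint_iff, inf_eq_left.mpr le_sup_right,
        Subgroup.zpowers_eq_bot]
      exact fun e => hp.ne_one (by rw [← hx, e, orderOf_one])
    intro h hh z hz hhz
    by_contra hne
    rw [not_or] at hne
    have hh' : (h : X) ∈ Subgroup.zpowers x := hh
    have hz' : (z : X) ∈ Subgroup.zpowers b := hz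
    have hgen : ∀ {q : ℕ} {u v : X}, q.Prime → orderOf u = q → v ∈ Subgroup.zpowers u → v ≠ 1 →
        u ∈ Subgroup.zpowers v := by
      intro q u v hq hu hv hv1
      have hvo : orderOf v = q := (hq.eq_one_or_self_of_dvd _ (hu ▸ orderOf_dvd_of_mem_zpowers hv)).resolve_left
        (fun e => hv1 (orderOf_eq_one_iff.mp e))
      have heq : Subgroup.zpowers v = Subgroup.zpowers u :=
        Subgroup.eq_of_le_of_card_ge (Subgroup.zpowers_le.mpr hv) (by rw [Nat.card_zpowers, Nat.card_zpowers, hvo, hu])
      rw [heq]; exact Subgroup.mem_zpowers u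
    obtain ⟨i, hi⟩ := Subgroup.mem_zpowers_iff.1 (hgen hp hx hh' (fun e => hne.1 (Subtype.ext e)))
    obtain ⟨j, hj⟩ := Subgroup.mem_zpowers_iff.1 (hgen hr hbo hz' (fun e => hne.2 (Subtype.ext e)))
    apply hnc
    show Commute x b
    rw [← hi, ← hj]
    have hc' : Commute (h : X) z := congrArg Subtype.val hhz
    exact hc'.zpow_zpow i j
  · subst h2
    have hgo6 : (orderOf x).Coprime 6 := by
      rw [hx, hp.coprime_iff_not_dvd]
      intro hd
      have := Nat.le_of_dvd (by norm_num) hd
      rcases (show p = 5 ∨ p = 6 by omega) with rfl | rfl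
      · norm_num at hd
      · norm_num at hp
    set c : R := e.symm (QuaternionGroup.a 1) with hcdef
    have hc : orderOf c = 2 * 2 ^ k := by
      rw [hcdef, MulEquiv.orderOf_eq, QuaternionGroup.orderOf_a_one]
    have hRc : Nat.card R = 4 * 2 ^ k := by
      rw [Nat.card_congr e.toEquiv, Nat.card_eq_fintype_card, QuaternionGroup.card]
    have hidx : (Subgroup.zpowers c).index ≤ 2 := by
      have h := (Subgroup.zpowers c).card_mul_index
      rw [Nat.card_zpowers, hc, hRc] at h
      have h' : 2 * 2 ^ k * (Subgroup.zpowers c).index = 2 * 2 ^ k * 2 := by rw [h]; ring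
      exact (Nat.eq_of_mul_eq_mul_left (by positivity) h').le
    have hxN : x ∈ Subgroup.normalizer (R : Set X) := by
      rw [Subgroup.normalizer_eq_top]; trivial
    exact Subgroup.mem_centralizer_iff.1 (le_centralizer_of_cyclic_index_two hR c hidx hxN hgo6) a ha

theorem atMostOne_of_isSolvable {X : Type*} [Group X] [Finite X] (hX : LatFpf X)
    [Group.IsSolvable X] : AtMostOne X := by
  intro p hp hp5 x y hx hy
  haveI := Fact.mk hp
  set F := Cfsg.fittingSubgroup X with hF
  haveI hFn : F.Normal := CfsgLib.Components.fittingSubgroup_normal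
  haveI : Group.IsNilpotent F := CfsgLib.Components.fittingSubgroup_isNilpotent
  have hSn : ∀ (q : ℕ) [Fact q.Prime] (S : Sylow q F), (S : Subgroup F).Normal := fun q hq S =>
    inferInstance
  have hmem : ∀ z : X, orderOf z = p → z ∈ F := by
    intro z hz
    apply CfsgLib.Hall.centralizer_fitting_le (G := X)
    rw [Subgroup.mem_centralizer_iff]
    suffices h : (Subgroup.centralizer ({z} : Set X)).subgroupOf F = ⊤ by
      intro w hw
      have : (⟨w, hw⟩ : F) ∈ (Subgroup.centralizer ({z} : Set X)).subgroupOf F := h ▸ Subgroup.mem_top _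
      exact Subgroup.mem_centralizer_singleton_iff.mp this
    apply Subgroup.eq_top_of_le_card
    apply Nat.le_of_dvd Nat.card_pos
    rw [← Nat.factorization_le_iff_dvd Nat.card_pos.ne' Nat.card_pos.ne', Finsupp.le_def]
    intro q
    by_cases hq : q.Prime
    · haveI := Fact.mk hq
      obtain ⟨S⟩ : Nonempty (Sylow q F) := inferInstance
      haveI := S.characteristic_of_normal (hSn q S)
      haveI : ((S : Subgroup F).map F.subtype).Normal := ConjAct.normal_of_characteristic_of_normal
      have h1 := commute_normal_pgroup hX hp hp5 hq hz _ (S.isPGroup'.map F.subtype)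
      have hle : (S : Subgroup F) ≤ (Subgroup.centralizer ({z} : Set X)).subgroupOf F := fun w hw =>
        Subgroup.mem_centralizer_singleton_iff.mpr
          (Subgroup.mem_centralizer_iff.mp h1 _ (Subgroup.mem_map_of_mem _ hw))
      have h2 := Subgroup.card_dvd_of_le hle
      rw [S.card_eq_multiplicity] at h2
      exact (hq.pow_dvd_iff_le_factorization Nat.card_pos.ne').mp h2
    · rw [Nat.factorization_eq_zero_of_not_prime _ hq]; exact Nat.zero_le _
  obtain ⟨S⟩ : Nonempty (Sylow p F) := inferInstance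
  haveI := Sylow.unique_of_normal S (hSn p S)
  have hinS : ∀ z : X, ∀ hz : orderOf z = p, (⟨z, hmem z hz⟩ : F) ∈ (S : Subgroup F) := by
    intro z hz
    have h1 : IsPGroup p (Subgroup.zpowers (⟨z, hmem z hz⟩ : F)) := IsPGroup.of_card (n := 1) (by
      rw [Nat.card_zpowers, Subgroup.orderOf_mk, hz, pow_one])
    obtain ⟨T, hT⟩ := h1.exists_le_sylow
    rw [← Subsingleton.elim T S]
    exact hT (Subgroup.mem_zpowers _)
  set R : Subgroup X := (S : Subgroup F).map F.subtype
  have hR : IsPGroup p R := S.isPGroup'.map F.subtype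
  haveI : IsCyclic R := CfsgLib.RankOneP.isCyclic_of_odd (by omega) hR (hX.uniqueOrderP hR)
  have hxR : x ∈ R := ⟨⟨x, hmem x hx⟩, hinS x hx, rfl⟩
  have hyR : y ∈ R := ⟨⟨y, hmem y hy⟩, hinS y hy, rfl⟩
  have := CfsgLib.RankOneP.zpowers_eq_of_orderOf_eq (a := (⟨x, hxR⟩ : R)) (b := ⟨y, hyR⟩)
    (by rw [Subgroup.orderOf_mk, Subgroup.orderOf_mk, hx, hy])
  obtain ⟨i, hi⟩ := Subgroup.mem_zpowers_iff.1 (this ▸ Subgroup.mem_zpowers (⟨y, hyR⟩ : R))
  exact Subgroup.mem_zpowers_iff.2 ⟨i, congrArg Subtype.val hi⟩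

theorem AtMostOne.subgroup {X : Type*} [Group X] (h : AtMostOne X) (H : Subgroup X) :
    AtMostOne H := by
  intro p hp hp5 x y hx hy
  obtain ⟨i, hi⟩ := Subgroup.mem_zpowers_iff.1
    (h p hp hp5 x y (by rw [Subgroup.orderOf_coe, hx]) (by rw [Subgroup.orderOf_coe, hy]))
  exact Subgroup.mem_zpowers_iff.2 ⟨i, Subtype.ext hi⟩

universe u

theorem isSolvable_aux : ∀ (n : ℕ) (X : Type u) [Group X] [Finite X], Nat.card X = n → LatFpf X →
    AtMostOne X → Group.IsSolvable X := by
  intro n
  induction n using Nat.strong_induction_on with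
  | _ n ih =>
    intro X _ _ hn hX hA
    by_cases hall : ∀ r : ℕ, r.Prime → r ∣ Nat.card X → r = 2 ∨ r = 3
    · exact CfsgLib.CharBasics.isSolvable_two_primes 2 3 hall
    push Not at hall
    obtain ⟨p, hp, hpd, hp2, hp3⟩ := hall
    haveI := Fact.mk hp
    have hp5 : 5 ≤ p := by
      have := hp.two_le
      rcases eq_or_ne p 4 with rfl | h4
      · norm_num at hp
      · omega
    obtain ⟨x, hx⟩ := exists_prime_orderOf_dvd_card' p hpd
    set Z := Subgroup.zpowers x with hZ
    haveI hZn : Z.Normal := ⟨fun z hz g => by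
      obtain ⟨i, rfl⟩ := Subgroup.mem_zpowers_iff.1 hz
      rw [← conj_zpow]
      refine zpow_mem (hA p hp hp5 x _ hx ?_) i
      rw [← hx]
      exact (MulAut.conj g).orderOf_eq x⟩
    set φ : X →* MulAut Z := MulAut.conjNormal with hφ
    set D := φ.ker with hD
    have hDc : ∀ d : D, Commute (d : X) x := fun d => by
      have h1 := congrArg (fun t : MulAut Z => (t ⟨x, Subgroup.mem_zpowers x⟩ : X)) (MonoidHom.mem_ker.mp d.2)
      simp only [hφ, MulAut.conjNormal_apply, MulAut.one_apply] at h1
      exact mul_inv_eq_iff_eq_mul.mp h1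
    have hxD : x ∈ D := by
      rw [hD, MonoidHom.mem_ker]
      ext ⟨z, hz⟩
      obtain ⟨i, rfl⟩ := Subgroup.mem_zpowers_iff.1 hz
      simp only [hφ, MulAut.conjNormal_apply, MulAut.one_apply]
      exact mul_inv_eq_iff_eq_mul.mpr ((Commute.refl x).zpow_right i)
    obtain ⟨P⟩ : Nonempty (Sylow p D) := inferInstance
    have hlt : CfsgLib.Transfer.LocallyTrivial p D := by
      refine CfsgLib.Transfer.locallyTrivial_of_sylow P fun Q hQP g hg hgo => ?_
      have hQ : IsPGroup p Q := P.2.to_le hQP
      haveI : IsCyclic Q := CfsgLib.RankOneP.isCyclic_of_odd (by omega) hQ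
        ((hX.comp D.subtype D.subtype_injective).uniqueOrderP hQ)
      obtain ⟨c, hc⟩ := IsCyclic.exists_generator (α := Q)
      suffices hcom : Commute g (c : D) by
        rw [Subgroup.mem_centralizer_iff]
        intro q hq
        obtain ⟨i, hi⟩ := Subgroup.mem_zpowers_iff.1 (hc ⟨q, hq⟩)
        have hi' : (c : D) ^ i = q := congrArg Subtype.val hi
        rw [← hi']
        exact (hcom.zpow_right i).symm
      obtain ⟨m, hm⟩ := (IsPGroup.iff_orderOf.mp hQ) c
      rw [← Subgroup.orderOf_coe] at hm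
      rcases m with _ | m
      · rw [pow_zero, orderOf_eq_one_iff] at hm
        rw [hm]; exact Commute.one_right _
      obtain ⟨k, hk⟩ := Subgroup.mem_zpowers_iff.1 (hc ⟨g * c * g⁻¹,
        (Subgroup.mem_normalizer_iff.mp hg _).mp c.2⟩)
      refine commute_of_fix_omega hp hm (congrArg Subtype.val hk).symm ?_ hgo
      have hbo : orderOf (((c : D) : X) ^ p ^ m) = p := by
        rw [← Subgroup.coe_pow, Subgroup.orderOf_coe,
          orderOf_pow_of_dvd (pow_ne_zero _ hp.ne_zero) (hm ▸ pow_dvd_pow p (Nat.le_succ m)), hm,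
          pow_succ, Nat.mul_div_cancel_left _ (pow_pos hp.pos m)]
      obtain ⟨i, hi⟩ := Subgroup.mem_zpowers_iff.1 (hA p hp hp5 x _ hx hbo)
      apply Subtype.ext
      show (g : X) * ((c : D) : X) ^ p ^ m = ((c : D) : X) ^ p ^ m * g
      rw [← hi]
      exact (hDc g).zpow_right i
    obtain ⟨T, N, hN, hc⟩ := CfsgLib.Transfer.frobenius_normal_complement hlt
    haveI := hN
    have hNlt : Nat.card N < n := by
      have h1 := hc.card_mul
      have hTp : p ∣ Nat.card (T : Subgroup D) := by
        have : p ^ 1 ∣ Nat.card (T : Subgroup D) := T.pow_dvd_card_of_pow_dvd_card (by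
          rw [pow_one, ← hx, ← Subgroup.orderOf_mk x hxD]
          exact orderOf_dvd_natCard _)
        simpa using this
      have h2 : 2 ≤ Nat.card (T : Subgroup D) := hp.two_le.trans (Nat.le_of_dvd Nat.card_pos hTp)
      have h3 : Nat.card D ≤ Nat.card X := Subgroup.card_le_card_group D
      have h4 : 0 < Nat.card N := Nat.card_pos
      have h5 : Nat.card N * 2 ≤ Nat.card N * Nat.card (T : Subgroup D) := Nat.mul_le_mul_left _ h2
      omega
    have hNsolv : Group.IsSolvable N := ih _ hNlt N rfl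
      (hX.comp (D.subtype.comp N.subtype) (D.subtype_injective.comp N.subtype_injective))
      ((hA.subgroup D).subgroup N)
    have hDsolv : Group.IsSolvable D := by
      refine CfsgLib.Hall.isSolvable_of_normal N hNsolv ?_
      have hq : IsPGroup p (D ⧸ N) := IsPGroup.of_equiv T.isPGroup' hc.symm.QuotientMulEquiv.symm
      haveI := hq.isNilpotent
      infer_instance
    haveI := hDsolv
    haveI : Group.IsSolvable (MulAut Z) := Group.isSolvable_of_comm fun e f => by
      apply MulEquiv.ext
      intro z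
      obtain ⟨i, hi⟩ := MonoidHom.map_cyclic e.toMonoidHom
      obtain ⟨j, hj⟩ := MonoidHom.map_cyclic f.toMonoidHom
      have hi' : ∀ w, e w = w ^ i := hi
      have hj' : ∀ w, f w = w ^ j := hj
      simp only [MulAut.mul_apply, hi', hj', ← zpow_mul, mul_comm i j]
    exact Group.isSolvable_of_ker_le_range D.subtype φ (by rw [Subgroup.range_subtype])

theorem isSolvable_of_atMostOne {X : Type*} [Group X] [Finite X] (hX : LatFpf X) (hA : AtMostOne X) :
    Group.IsSolvable X := isSolvable_aux _ X rfl hX hA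

end CfsgLib.FrobOrder
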